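import Groth.Agent.BunMod.K325.GeomFib
import Groth.Agent.VBCurve.K432.MukLaws
import Groth.Prelude.Def_BunMod
import Groth.Prelude.Def_Jac
import Groth.Prelude.Def_ModFun
import Groth.Prelude.Def_Omega2

/-!
# Semistable bundles of rank one (node JB2 of `Groth.Agent.BunMod.K596.PlanJ`)

On a curve a line bundle is semistable, and two line bundles of degree zero which are S-equivalent are isomorphic.
Hence the moduli space of semistable bundles of rank one and degree zero is the coarse moduli scheme of line bundles of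
degree zero, with the same theta line bundles and determinant maps.
-/

set_option autoImplicit false
universe u

open CategoryTheory CategoryTheory.Limits AlgebraicGeometry Opposite

namespace K479.ModSSOne

open Groth.Agent.VarietyA.DegRank K707.Base K707.Deg K707.Slope K707.Semi K325.GeomFib

section cat

variable {C : Type*} [Category C] [Abelian C] {E : C}

/-- The cokernel of the inclusion of the zero subobject. -/
theorem cokernel_ofLE_bot {A B : Subobject E} (h : A ≤ B) (hA : A = ⊥) :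
    Nonempty (cokernel (Subobject.ofLE A B h) ≅ (B : C)) := by
  subst hA
  have h0 : Subobject.ofLE ⊥ B h = 0 := by
    rw [← cancel_mono B.arrow, Subobject.ofLE_arrow, zero_comp, Subobject.bot_arrow]
  exact ⟨cokernelIsoOfEq h0 ≪≫ cokernelZeroIsoTarget⟩

/-- The first factor of a chain starting at zero. -/
theorem factor_zero_iso (s : LTSeries (Subobject E)) (h : s.head = ⊥) (h0 : 0 < s.length) :
    Nonempty (StabCat.factor s ⟨0, h0⟩ ≅ ((s (Fin.succ ⟨0, h0⟩) : Subobject E) : C)) :=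
  cokernel_ofLE_bot _ h

end cat

section one

variable {k : Type u} [Field k] {X : Scheme.{u}} [X.Over (Spec (CommRingCat.of k))] [IsIntegral X]
  [IsProper (X ↘ (Spec (CommRingCat.of k)))]

/-- Line bundles are semistable. -/
theorem semistable_of_rank_one (C : Crv k X) {E : X.Modules} (hE : FlatMod.IsFinLocFreeOfRank 1 E) :
    ModFun.IsSlopeSemistable k X E 1 := by
  rw [← ss_iff C hE]
  refine St.ss C (isFinLocFree_of_rank hE) ?_
  intro F i _ _ h0 h1
  rw [rk_of_rank hE] at h1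
  omega

/-- Line bundles are stable. -/
theorem stable_of_rank_one (k : Type u) [Field k] {X : Scheme.{u}} [X.Over (Spec (CommRingCat.of k))] (E : X.Modules) :
    ModFun.IsSlopeStable k X E 1 := by
  intro F r' i _ h0 h1
  omega

/-- The graded object of a Jordan-Hölder filtration of a line bundle of degree zero. -/
theorem grObj_iso (C : Crv k X) {E : X.Modules} (hE : FlatMod.IsFinLocFreeOfRank 1 E)
    (hd : Curv2.deg k X E 1 = 0) {s : LTSeries (Subobject E)} (hs : BunMod.IsJH k X 1 0 E s) :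
    Nonempty (StabCat.grObj s ≅ E) := by
  obtain ⟨hb, ht, hf⟩ := hs
  have hEv := isFinLocFree_of_rank hE
  have hrk : rk E = 1 := rk_of_rank hE
  -- the length is positive
  have hpos : 0 < s.length := by
    rw [Nat.pos_iff_ne_zero]
    intro h0
    have h1 : s.head = s.last := by
      change s 0 = s (Fin.last _)
      congr 1
      ext
      simp [h0]
    rw [hb, ht] at h1
    have h2 : IsZero E := by
      have h3 : (𝟙 E : E ⟶ E) = 0 := by
        have : Subobject.mk (𝟙 E) = ⊥ := by rw [Subobject.mk_eq_top_of_isIso]; exact h1.symm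
        exact Subobject.mk_eq_bot_iff_zero.1 this
      exact (IsZero.iff_id_eq_zero _).2 h3
    have h3 : rk E = 0 := rk_of_isZero h2
    omega
  obtain ⟨r', hr', hfr, -, hdeg⟩ := hf ⟨0, hpos⟩
  obtain ⟨e⟩ := factor_zero_iso s hb hpos
  have hrk' : rk ((s (Fin.succ ⟨0, hpos⟩) : Subobject E) : X.Modules) = r' := by
    rw [← rk_iso e, rk_of_rank hfr]
  have hdg' : dg k ((s (Fin.succ ⟨0, hpos⟩) : Subobject E) : X.Modules) = 0 := by
    rw [← dg_iso k e, dg_of_rank k hfr]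
    simpa using hdeg
  have hcoh : Coh.IsCoh ((s (Fin.succ ⟨0, hpos⟩) : Subobject E) : X.Modules) :=
    Groth.Agent.Sga67.CohBasic.isCoh_of_iso e (isCoh_of_rank hfr)
  have hiso : IsIso (s (Fin.succ ⟨0, hpos⟩) : Subobject E).arrow := by
    refine isIso_of_mono C _ hcoh (isCoh_of_rank hE) (by omega) ?_
    rw [hdg', dg_of_rank k hE, hd]
  have htop : (s (Fin.succ ⟨0, hpos⟩) : Subobject E) = ⊤ := (Subobject.isIso_arrow_iff_eq_top _).1 hiso
  have hlen : s.length = 1 := by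
    by_contra hne
    have h1 : 1 < s.length := by omega
    have h2 : s (Fin.castSucc ⟨1, h1⟩) < s (Fin.succ ⟨1, h1⟩) := s.step ⟨1, h1⟩
    have h3 : (Fin.castSucc ⟨1, h1⟩ : Fin (s.length + 1)) = Fin.succ ⟨0, hpos⟩ := rfl
    rw [h3, htop] at h2
    exact not_top_lt h2
  let _ : Unique (Fin s.length) := (finCongr hlen).unique
  have hdef : (default : Fin s.length) = ⟨0, hpos⟩ := Subsingleton.elim _ _
  have e2 : StabCat.grObj s ≅ StabCat.factor s default := coproductUniqueIso _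
  exact ⟨e2 ≪≫ eqToIso (by rw [hdef]) ≪≫ e ≪≫ asIso (s (Fin.succ ⟨0, hpos⟩) : Subobject E).arrow⟩

/-- S-equivalent line bundles of degree zero are isomorphic. -/
theorem iso_of_sEq (C : Crv k X) {E E' : X.Modules} (hE : FlatMod.IsFinLocFreeOfRank 1 E)
    (hE' : FlatMod.IsFinLocFreeOfRank 1 E') (hd : Curv2.deg k X E 1 = 0) (hd' : Curv2.deg k X E' 1 = 0)
    (h : BunMod.SEq k X 1 0 E E') : Nonempty (E ≅ E') := by
  obtain ⟨s, s', hs, hs', ⟨e⟩⟩ := h
  obtain ⟨e1⟩ := grObj_iso C hE hd hs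
  obtain ⟨e2⟩ := grObj_iso C hE' hd' hs'
  exact ⟨e1.symm ≪≫ e ≪≫ e2⟩

end one

section fam

variable {k : Type u} [Field k] {X : Scheme.{u}} {f : X ⟶ Spec (CommRingCat.of k)} [IsProper f] [Smooth f]
  [GeometricallyConnected f]

theorem nc_fib (hdim : topologicalKrullDim X = 1) {Ω : Type u} [Field Ω]
    (s : Spec (CommRingCat.of Ω) ⟶ Spec (CommRingCat.of k)) : NC (PicF.XTproj f (Over.mk s)) :=
  NC.of_isPullback hdim (IsPullback.of_hasPullback f s)

/-- Families of line bundles are semistable. -/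
theorem fibSemistable_one (hdim : topologicalKrullDim X = 1) {T : Over (Spec (CommRingCat.of k))}
    {E : (ModFun.modProb f).Fam T} (hE : FlatMod.IsFinLocFreeOfRank 1 (E : (PicF.XT f T).Modules)) :
    BunMod.FibSemistable f 1 T E := by
  intro Ω _ _ t
  obtain ⟨h1, h2, h3⟩ := nc_fib (f := f) hdim (t ≫ T.hom)
  let : (PicF.XT f (Over.mk (t ≫ T.hom))).Over (Spec (CommRingCat.of Ω)) := ⟨PicF.XTproj f (Over.mk (t ≫ T.hom))⟩
  have : IsProper ((PicF.XT f (Over.mk (t ≫ T.hom))) ↘ (Spec (CommRingCat.of Ω))) := h2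
  exact semistable_of_rank_one h3 (Groth.Agent.Krr.H482.PullLambda.isFinLocFreeOfRank_pullback _ hE)

/-- The two problems have the same admissible families. -/
theorem ok_iff (hdim : topologicalKrullDim X = 1) (d : ℤ) (T : Over (Spec (CommRingCat.of k)))
    (E : (ModFun.modProb f).Fam T) : (BunMod.USS f 1 d).ok T E ↔ (ModFun.PicDeg f d).ok T E :=
  ⟨fun h => ⟨⟨trivial, h.2.1⟩, h.2.2.1⟩, fun h => ⟨trivial, h.1.2, h.2, fibSemistable_one hdim h.1.2⟩⟩

/-- The classifying maps of the problem of line bundles from those of the problem of semistable bundles. -/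
def toPic (hdim : topologicalKrullDim X = 1) {d : ℤ} {J : Over (Spec (CommRingCat.of k))}
    (ψ : (BunMod.USS f 1 d).Hom ⊤ J) : (ModFun.PicDeg f d).Hom ⊤ J where
  app T x hT hx := ψ.app T x hT ((ok_iff hdim d T x).2 hx)
  natural g x hT hT' hx hx' := ψ.natural g x hT hT' ((ok_iff hdim d _ x).2 hx) ((ok_iff hdim d _ _).2 hx')
  resp x y hT hx hy h := ψ.resp x y hT ((ok_iff hdim d _ x).2 hx) ((ok_iff hdim d _ y).2 hy) h

/-- The converse. -/
def ofPic (hdim : topologicalKrullDim X = 1) {d : ℤ} {J : Over (Spec (CommRingCat.of k))}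
    (ψ : (ModFun.PicDeg f d).Hom ⊤ J) : (BunMod.USS f 1 d).Hom ⊤ J where
  app T x hT hx := ψ.app T x hT ((ok_iff hdim d T x).1 hx)
  natural g x hT hT' hx hx' := ψ.natural g x hT hT' ((ok_iff hdim d _ x).1 hx) ((ok_iff hdim d _ _).1 hx')
  resp x y hT hx hy h := ψ.resp x y hT ((ok_iff hdim d _ x).1 hx) ((ok_iff hdim d _ y).1 hy) h

theorem deg_transport {Y S : Scheme.{u}} (f : Y ⟶ S) {Ω : Type u} [Field Ω] {t t' : Spec (CommRingCat.of Ω) ⟶ S}
    (h : t' = t) (a : Over.mk t' ⟶ Over.mk t) (ha : a.left = 𝟙 _) (x : (PicF.XT f (Over.mk t)).Modules) (n : ℕ) :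
    (letI : (PicF.XT f (Over.mk t')).Over (Spec (CommRingCat.of Ω)) := ⟨PicF.XTproj f (Over.mk t')⟩
     Curv2.deg Ω (PicF.XT f (Over.mk t')) ((Scheme.Modules.pullback (PicF.XTmap f a)).obj x) n) =
    (letI : (PicF.XT f (Over.mk t)).Over (Spec (CommRingCat.of Ω)) := ⟨PicF.XTproj f (Over.mk t)⟩
     Curv2.deg Ω (PicF.XT f (Over.mk t)) x n) := by
  subst h
  obtain rfl : a = 𝟙 _ := Over.OverMorphism.ext ha
  let : (PicF.XT f (Over.mk t')).Over (Spec (CommRingCat.of Ω)) := ⟨PicF.XTproj f (Over.mk t')⟩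
  have e1 : PicF.XTmap f (𝟙 (Over.mk t')) = 𝟙 _ := by
    apply pullback.hom_ext
    · rw [K432.MukLaws.XTmap_fst, Category.id_comp]
    · change PicF.XTmap f (𝟙 (Over.mk t')) ≫ PicF.XTproj f (Over.mk t') = _
      rw [K432.MukLaws.XTmap_XTproj, Over.id_left, Category.comp_id, Category.id_comp]
  rw [Curv2.deg, Curv2.deg, Groth.Agent.Fga.HodgePush.euler_congr Ω _
    ((Scheme.Modules.pullbackCongr e1).app x ≪≫ (Scheme.Modules.pullbackId _).app x)]
  rfl

/-- The degree of an admissible family over a geometric point. -/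
theorem deg_fib {Y S : Scheme.{u}} (f : Y ⟶ S) {Ω : Type u} [Field Ω] [IsAlgClosed Ω]
    (t : Spec (CommRingCat.of Ω) ⟶ S) (x : (PicF.XT f (Over.mk t)).Modules) {n : ℕ} {d : ℤ}
    (h : ModFun.FibDeg f n d (Over.mk t) x) :
    letI : (PicF.XT f (Over.mk t)).Over (Spec (CommRingCat.of Ω)) := ⟨PicF.XTproj f (Over.mk t)⟩
    Curv2.deg Ω (PicF.XT f (Over.mk t)) x n = d := by
  rw [← h Ω (𝟙 _)]
  exact (deg_transport f (Category.id_comp t) (Over.homMk (𝟙 _) rfl) rfl x n).symm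

theorem isCoarseModuli_toPic (hdim : topologicalKrullDim X = 1) {J : Over (Spec (CommRingCat.of k))}
    (ψ : (BunMod.USS f 1 0).Hom ⊤ J) (hJ : BunMod.IsModSS f ⊤ 1 0 J ψ) :
    ModFun.IsCoarseModuli ⊤ (ModFun.PicDeg f 0) J (toPic hdim ψ) := by
  refine ⟨hJ.1, fun N χ => ?_, fun Ω _ _ t hP => ⟨fun g => ?_, fun x y hx hy hxy => ?_⟩⟩
  · obtain ⟨g, hg, huniq⟩ := hJ.2.1 N (ofPic hdim χ)
    refine ⟨g, fun T x hT hx => hg T x hT ((ok_iff hdim 0 T x).2 hx), fun g' hg' => huniq g' fun T x hT hx => ?_⟩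
    exact hg' T x hT ((ok_iff hdim 0 T x).1 hx)
  · obtain ⟨x, hx, e⟩ := (hJ.2.2 Ω t hP).1 g
    exact ⟨x, (ok_iff hdim 0 _ x).1 hx, e⟩
  · have h1 := ((hJ.2.2 Ω t hP).2 x y ((ok_iff hdim 0 _ x).2 hx) ((ok_iff hdim 0 _ y).2 hy)).1 hxy
    obtain ⟨i1, i2, i3⟩ := nc_fib (f := f) hdim t
    let : (PicF.XT f (Over.mk t)).Over (Spec (CommRingCat.of Ω)) := ⟨PicF.XTproj f (Over.mk t)⟩
    have : IsProper ((PicF.XT f (Over.mk t)) ↘ (Spec (CommRingCat.of Ω))) := i2
    obtain ⟨e⟩ := iso_of_sEq i3 hx.1.2 hy.1.2 (deg_fib f t x hx.2) (deg_fib f t y hy.2) h1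
    exact K432.MukLaws.r_of_iso f e

theorem jumpLocus_toPic (hdim : topologicalKrullDim X = 1) {J : Over (Spec (CommRingCat.of k))}
    (ψ : (BunMod.USS f 1 0).Hom ⊤ J) (N : X.Modules) :
    BunMod.jumpLocus f (BunMod.ussOK f 1 0) ψ N = Jac.jumpLocus f 0 (toPic hdim ψ) N := by
  ext m
  constructor
  · rintro ⟨Ω, i1, i2, t, hP, x, hx, ⟨-, h2⟩, h3⟩
    exact ⟨Ω, i1, i2, t, hP, x, (ok_iff hdim 0 _ x).1 hx, h2, h3⟩
  · rintro ⟨Ω, i1, i2, t, hP, x, hx, h2, h3⟩
    refine ⟨Ω, i1, i2, t, hP, x, (ok_iff hdim 0 _ x).2 hx, ⟨⟨1, hx.1.2, ?_⟩, h2⟩, h3⟩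
    let : (PicF.XT f (Over.mk t)).Over (Spec (CommRingCat.of Ω)) := ⟨PicF.XTproj f (Over.mk t)⟩
    exact stable_of_rank_one Ω _

theorem isThetaLB_toPic (hdim : topologicalKrullDim X = 1) {J : Over (Spec (CommRingCat.of k))}
    (ψ : (BunMod.USS f 1 0).Hom ⊤ J) (N : X.Modules) (ΘJ : J.left.Modules) :
    BunMod.IsThetaLB f (BunMod.ussOK f 1 0) ψ N ΘJ ↔ Jac.IsThetaLB f 0 (toPic hdim ψ) N ΘJ := by
  have h1 : (⟨BunMod.thetaLocus f (BunMod.ussOK f 1 0) ψ N, isClosed_closure⟩ : TopologicalSpace.Closeds J.left) =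
      ⟨Jac.thetaLocus f 0 (toPic hdim ψ) N, isClosed_closure⟩ := by
    ext1
    exact congrArg closure (jumpLocus_toPic hdim ψ N)
  unfold BunMod.IsThetaLB Jac.IsThetaLB
  rw [h1]

end fam

variable (k : Type u) [Field k] [IsAlgClosed k]
  (X : Scheme.{u}) [X.Over (Spec (CommRingCat.of k))]
  [IsProper (X ↘ Spec (CommRingCat.of k))] [Smooth (X ↘ Spec (CommRingCat.of k))]
  [GeometricallyConnected (X ↘ Spec (CommRingCat.of k))] (hdim : topologicalKrullDim ↥X = 1)

include hdim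

/-- JB2.  The moduli space of semistable bundles of rank one and degree zero is the coarse moduli scheme `PicDeg 0`,
with the same theta line bundles and determinant maps (rows S16657, S19872). -/
theorem of_modSS_one (J : Over (Spec (CommRingCat.of k))) (ψ₁ : (BunMod.USS (X ↘ Spec (CommRingCat.of k)) 1 0).Hom ⊤ J)
    (hJ : BunMod.IsModSS (X ↘ Spec (CommRingCat.of k)) ⊤ 1 0 J ψ₁) :
    ∃ ψ : (ModFun.PicDeg (X ↘ Spec (CommRingCat.of k)) 0).Hom ⊤ J,
      ModFun.IsCoarseModuli ⊤ (ModFun.PicDeg (X ↘ Spec (CommRingCat.of k)) 0) J ψ ∧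
      (∀ (N : X.Modules) (ΘJ : J.left.Modules), PicF.IsInvertible N →
        BunMod.IsThetaLB (X ↘ Spec (CommRingCat.of k)) (BunMod.ussOK (X ↘ Spec (CommRingCat.of k)) 1 0) ψ₁ N ΘJ →
        Jac.IsThetaLB (X ↘ Spec (CommRingCat.of k)) 0 ψ N ΘJ) ∧
      (∀ (r : ℕ) (M : Over (Spec (CommRingCat.of k))) (φ : (BunMod.USS (X ↘ Spec (CommRingCat.of k)) r 0).Hom ⊤ M)
        (dm : M ⟶ J),
        (∀ (T : Over (Spec (CommRingCat.of k))) (E : (ModFun.modProb (X ↘ Spec (CommRingCat.of k))).Fam T),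
          (BunMod.USS (X ↘ Spec (CommRingCat.of k)) r 0).ok T E →
            ∃ D : (ModFun.modProb (X ↘ Spec (CommRingCat.of k))).Fam T,
              (∃ n : ℕ, FlatMod.IsFinLocFreeOfRank n E ∧ ExtPow.IsExtPow n E D) ∧
              (BunMod.USS (X ↘ Spec (CommRingCat.of k)) 1 0).ok T D) →
        ModFun.Induces φ ψ₁ (fun T (E D : (ModFun.modProb (X ↘ Spec (CommRingCat.of k))).Fam T) =>
          ∃ n : ℕ, FlatMod.IsFinLocFreeOfRank n E ∧ ExtPow.IsExtPow n E D) dm →
        BunMod.IsDetMap (X ↘ Spec (CommRingCat.of k)) (BunMod.ussOK (X ↘ Spec (CommRingCat.of k)) r 0) φ 0 ψ dm) := by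
  refine ⟨toPic hdim ψ₁, isCoarseModuli_toPic hdim ψ₁ hJ, fun N ΘJ _ h => (isThetaLB_toPic hdim ψ₁ N ΘJ).1 h, ?_⟩
  intro r M φ dm h1 h2
  refine ⟨fun T E _ hE => ?_, fun T E D hT hE hD hR => ?_⟩
  · obtain ⟨D, hD, hok⟩ := h1 T E hE
    exact ⟨D, hD, (ok_iff hdim 0 T D).1 hok⟩
  · exact h2 T E D hT hE ((ok_iff hdim 0 T D).2 hD) hR

end K479.ModSSOne
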