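import Groth.Agent.BunMod.K479.ModSSOne
import Groth.Agent.VBCurve.K703.Det2
import Groth.Agent.Variety.K420.DetMain

/-!
# The determinant map exists (node JB3c of `Groth.Agent.BunMod.K596.PlanJ`)

The top exterior power of an admissible family of `USS f r d` is an admissible family of `PicDeg f d`; this is compatible
with pull-back and twists, so that a morphism from `PicDeg f d` to a scheme gives one from `USS f r d` (`detHom`), and the
universal property of `M` gives the determinant map.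
-/

set_option autoImplicit false
universe u

open CategoryTheory CategoryTheory.Limits AlgebraicGeometry Opposite

namespace K479.DetMapEx

open Groth.Agent.Grpsch.PicGrp K325.GeomFib K479.ModSSOne K432.MukLaws K703.Det2

section gen

variable {X S : Scheme.{u}} (f : X ⟶ S)

/-- Identified families have identified determinants. -/
theorem r_det {T : Over S} {r : ℕ} {E E' D D' : (PicF.XT f T).Modules} (hE : FlatMod.IsFinLocFreeOfRank r E)
    (h : (ModFun.modProb f).r T E E') (hD : ExtPow.IsExtPow r E D) (hD' : ExtPow.IsExtPow r E' D') :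
    (ModFun.modProb f).r T D D' := by
  obtain ⟨M, hM, ⟨e⟩⟩ := h
  have hM' := Groth.Agent.Fdesc.LocGen.isInvertible_pullback (PicF.XTproj f T) hM
  have hEv := Groth.Agent.Krr.H495.Rank.isFinLocFree_of_rank hE
  have hE1 : FlatMod.IsFinLocFreeOfRank r (CohB1.tensorMod E ((Scheme.Modules.pullback (PicF.XTproj f T)).obj M)) := by
    have := Groth.Agent.Krr.H487.KerRank.isFinLocFreeOfRank_tensor hE (inv_iff.2 hM')
    rwa [mul_one] at this
  obtain ⟨D'', hD'', hi''⟩ := exists_det hE1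
  obtain ⟨e'⟩ := det_congr e hD' hD''
  have h1 := det_twist hEv hM' hD hD'' (inv_det hE hD) hi''
  refine ⟨CohB1.tensorPow M r, Groth.Agent.Fdesc.LocGen.isInvertible_tensorPow hM r, ?_⟩
  rw [← pull_mk _ hM, ← map_pow, ← mk_tensorPow, pull_mk, mk_mul_mk, mk_eq_iff] at h1
  obtain ⟨e''⟩ := h1
  exact ⟨e' ≪≫ e''⟩

end gen

/-- Morphisms from an empty scheme. -/
theorem eq_of_isEmpty {S : Scheme.{u}} {T J : Over S} [IsEmpty T.left] (a b : T ⟶ J) : a = b :=
  Over.OverMorphism.ext (isInitialOfIsEmpty.hom_ext _ _)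

section fam

variable {k : Type u} [Field k] {X : Scheme.{u}} {f : X ⟶ Spec (CommRingCat.of k)} [IsProper f] [Smooth f]
  [GeometricallyConnected f]

theorem isEmpty_left (hdim : topologicalKrullDim X = 1) (T : Over (Spec (CommRingCat.of k)))
    (h : IsEmpty (PicF.XT f T)) : IsEmpty T.left := by
  have hne : Nonempty X := by
    by_contra hc
    rw [not_nonempty_iff] at hc
    have : IsEmpty (TopologicalSpace.IrreducibleCloseds X) := ⟨fun Z => by
      obtain ⟨x, -⟩ := Z.isIrreducible.1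
      exact hc.false x⟩
    rw [topologicalKrullDim, Order.krullDim_eq_bot] at hdim
    exact WithBot.bot_ne_one hdim
  have h1 : Surjective f := ⟨Function.surjective_to_subsingleton (f : X → Spec (CommRingCat.of k))⟩
  have h2 : Surjective (PicF.XTproj f T) := inferInstanceAs (Surjective (pullback.snd f T.hom))
  exact ⟨fun t => h.false (h2.surj t).choose⟩

/-- Determinants of semistable families. -/
theorem ok_det (hdim : topologicalKrullDim X = 1) {r : ℕ} {d : ℤ} {T : Over (Spec (CommRingCat.of k))}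
    {E D : (PicF.XT f T).Modules} (hE : (BunMod.USS f r d).ok T E) (hD : ExtPow.IsExtPow r E D) :
    (ModFun.PicDeg f d).ok T D := by
  refine ⟨⟨trivial, inv_iff.2 (inv_det hE.2.1 hD)⟩, ?_⟩
  intro Ω _ _ t
  obtain ⟨h1, h2, h3⟩ := nc_fib (f := f) hdim (t ≫ T.hom)
  let : (PicF.XT f (Over.mk (t ≫ T.hom))).Over (Spec (CommRingCat.of Ω)) := ⟨PicF.XTproj f (Over.mk (t ≫ T.hom))⟩
  have : IsProper ((PicF.XT f (Over.mk (t ≫ T.hom))) ↘ (Spec (CommRingCat.of Ω))) := h2
  refine Eq.trans ?_ (hE.2.2.1 Ω t)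
  exact (K420.DetMain.deg_det Ω h3.dim
    (Groth.Agent.Krr.H482.PullLambda.isFinLocFreeOfRank_pullback _ hE.2.1)
    (extPow_pull _ (Groth.Agent.Krr.H495.Rank.isFinLocFree_of_rank hE.2.1) hD)).symm

/-- The determinant of a family. -/
noncomputable def det {r : ℕ} {d : ℤ} {T : Over (Spec (CommRingCat.of k))} {E : (ModFun.modProb f).Fam T}
    (hE : (BunMod.USS f r d).ok T E) : (PicF.XT f T).Modules :=
  (exists_det hE.2.1).choose

omit [IsProper f] [Smooth f] [GeometricallyConnected f] in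
theorem isExtPow_det {r : ℕ} {d : ℤ} {T : Over (Spec (CommRingCat.of k))} {E : (ModFun.modProb f).Fam T}
    (hE : (BunMod.USS f r d).ok T E) : ExtPow.IsExtPow r (E : (PicF.XT f T).Modules) (det hE) :=
  (exists_det hE.2.1).choose_spec.1

/-- Composition with the determinant. -/
noncomputable def detHom (hdim : topologicalKrullDim X = 1) (r : ℕ) {d : ℤ} {J : Over (Spec (CommRingCat.of k))}
    (ψ : (ModFun.PicDeg f d).Hom ⊤ J) : (BunMod.USS f r d).Hom ⊤ J where
  app T E _ hE := ψ.app T (det hE) trivial (ok_det hdim hE (isExtPow_det hE))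
  natural {T T'} g E hT hT' hE hE' := by
    have h1 : ExtPow.IsExtPow r ((Scheme.Modules.pullback (PicF.XTmap f g)).obj (E : (PicF.XT f T).Modules))
        ((Scheme.Modules.pullback (PicF.XTmap f g)).obj (det hE)) :=
      extPow_pull _ (Groth.Agent.Krr.H495.Rank.isFinLocFree_of_rank hE.2.1) (isExtPow_det hE)
    have h2 : (ModFun.PicDeg f d).ok T' ((Scheme.Modules.pullback (PicF.XTmap f g)).obj (det hE)) :=
      ok_det hdim hE' h1
    obtain ⟨e⟩ := det_congr (Iso.refl _) (isExtPow_det hE') h1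
    rw [ψ.resp _ _ trivial (ok_det hdim hE' (isExtPow_det hE')) h2 (r_of_iso f e)]
    exact ψ.natural g (det hE) trivial trivial (ok_det hdim hE (isExtPow_det hE)) h2
  resp {T} E E' hT hE hE' h := by
    exact ψ.resp _ _ trivial _ _ (r_det f hE.2.1 h (isExtPow_det hE) (isExtPow_det hE'))

theorem isDetMap (hdim : topologicalKrullDim X = 1) {r : ℕ} {d : ℤ} {M J : Over (Spec (CommRingCat.of k))}
    (φ : (BunMod.USS f r d).Hom ⊤ M) (ψ : (ModFun.PicDeg f d).Hom ⊤ J) (dm : M ⟶ J)
    (h : ∀ (T : Over (Spec (CommRingCat.of k))) (E : (BunMod.USS f r d).Fam T)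
      (hT : (⊤ : ObjectProperty (Over (Spec (CommRingCat.of k)))) T) (hE : (BunMod.USS f r d).ok T E),
      (detHom hdim r ψ).app T E hT hE = φ.app T E hT hE ≫ dm) :
    BunMod.IsDetMap f (BunMod.ussOK f r d) φ d ψ dm := by
  refine ⟨fun T E _ hE => ?_, fun T E D hT hE hD hR => ?_⟩
  · exact ⟨det hE, ⟨r, hE.2.1, isExtPow_det hE⟩, ok_det hdim hE (isExtPow_det hE)⟩
  · obtain ⟨n, hn, hnD⟩ := hR
    by_cases hx : IsEmpty (PicF.XT f T)
    · have := isEmpty_left hdim T hx
      exact eq_of_isEmpty _ _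
    · rw [not_isEmpty_iff] at hx
      obtain ⟨x⟩ := hx
      obtain rfl : n = r := Groth.Agent.Krr.H487.KerRank.rank_unique_at hn hE.2.1 x
      obtain ⟨e⟩ := det_congr (Iso.refl _) hnD (isExtPow_det hE)
      rw [← h T E hT hE]
      exact ψ.resp _ _ trivial hD (ok_det hdim hE (isExtPow_det hE)) (r_of_iso f e)

/-- The determinant map of a best approximation. -/
theorem exists_isDetMap (hdim : topologicalKrullDim X = 1) {r : ℕ} {d : ℤ} {M J : Over (Spec (CommRingCat.of k))}
    (φ : (BunMod.USS f r d).Hom ⊤ M) (hφ : ModFun.IsBestApprox ⊤ (BunMod.USS f r d) M φ)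
    (ψ : (ModFun.PicDeg f d).Hom ⊤ J) :
    ∃ dm : M ⟶ J, BunMod.IsDetMap f (BunMod.ussOK f r d) φ d ψ dm := by
  obtain ⟨dm, h, -⟩ := hφ J (detHom hdim r ψ)
  exact ⟨dm, isDetMap hdim φ ψ dm h⟩

end fam

variable (k : Type u) [Field k] [IsAlgClosed k]
  (X : Scheme.{u}) [X.Over (Spec (CommRingCat.of k))]
  [IsProper (X ↘ Spec (CommRingCat.of k))] [Smooth (X ↘ Spec (CommRingCat.of k))]
  [GeometricallyConnected (X ↘ Spec (CommRingCat.of k))] (hdim : topologicalKrullDim ↥X = 1)

include hdim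

/-- JB3c.  The determinant map exists. -/
theorem exists_detMap (r : ℕ) (hr : 1 ≤ r) (M : Over (Spec (CommRingCat.of k)))
    (φ : (BunMod.USS (X ↘ Spec (CommRingCat.of k)) r 0).Hom ⊤ M)
    (hM : BunMod.IsModSS (X ↘ Spec (CommRingCat.of k)) ⊤ r 0 M φ)
    (J : Over (Spec (CommRingCat.of k))) (ψ : (ModFun.PicDeg (X ↘ Spec (CommRingCat.of k)) 0).Hom ⊤ J)
    (hJ : ModFun.IsCoarseModuli ⊤ (ModFun.PicDeg (X ↘ Spec (CommRingCat.of k)) 0) J ψ) :
    ∃ dm : M ⟶ J,
      BunMod.IsDetMap (X ↘ Spec (CommRingCat.of k)) (BunMod.ussOK (X ↘ Spec (CommRingCat.of k)) r 0) φ 0 ψ dm :=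
  exists_isDetMap hdim φ hM.2.1 ψ

end K479.DetMapEx
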