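import Groth.Agent.BunMod.K319.Fin
import Groth.Agent.BunMod.K706.TensFam
import Groth.Agent.BunMod.K527.SymTheta
import Groth.Agent.BunMod.K140.Atlas
import Groth.Agent.Sga7.H543.Van

/-!
# The section `T` on `U(r, 0) × U(m, 0)`

`M₁`, `M₂`, `M₃` moduli spaces of semistable bundles of ranks `r`, `m`, `m r`, `τ : M₁ × M₂ ⟶ M₃` the tensor product,
`μ = d₂ - d₁ : M₁ × M₂ ⟶ J`.  The product of the pull-backs of the theta ideals along `τ` and `μ` is the ideal of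
vanishing of a section of `(Θ₁^m ⊗ d₁^* Θ_J) ⊠ (Θ₂^r ⊗ d₂^* Θ_J)` (`exists_sec`), and its pull-back to a pair of
families `(E, F)` is `thetaIdeal (E ⊗ F) * thetaIdeal D`, `D = det F ⊗ (det E)⁻¹` (`comap_eq`).
-/

set_option autoImplicit false
universe u
open CategoryTheory CategoryTheory.Limits AlgebraicGeometry MonoidalCategory CartesianMonoidalCategory MonObj

namespace K479.SdT

open Jac K140.BM K319.Main Groth.Agent.Grpsch.PicGrp Groth.Agent.Fdesc.LocGen Groth.Agent.Sga7.H543.Van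
open Groth.Agent.Divis.EffCartier Groth.Agent.Divis.CartierBasic Groth.Agent.Divis.IdealComap K622.PicKer K518.Phi

/-- The ideal of vanishing of a product of sections. -/
theorem isVan_tmul {Y : Scheme.{u}} {A B : Y.Modules} {s : Γ(A, ⊤)} {t : Γ(B, ⊤)} {I J : Y.IdealSheafData}
    (hs : IsVan s I) (ht : IsVan t J) : IsVan (tmul s t) (I * J) := by
  intro x
  obtain ⟨U, hx, e, a, he, ha, h1⟩ := hs x
  obtain ⟨V, hy, f, b, hf, hb, h2⟩ := ht x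
  have hz : x ∈ U ⊓ V := ⟨hx, hy⟩
  refine ⟨U ⊓ V, hz, tmul (res A inf_le_left e) (res B inf_le_right f), ores inf_le_left a * ores inf_le_right b,
    (he.res _).tmul (hf.res _), ?_, ?_⟩
  · have h3 := congrArg (res A (inf_le_left : U ⊓ V ≤ U)) ha
    have h4 := congrArg (res B (inf_le_right : U ⊓ V ≤ V)) hb
    rw [res_res, res_smul] at h3 h4
    rw [res_tmul, h3, h4, smul_tmul, tmul_smul, smul_smul]
  · rw [stalkIdeal_mul, h1, h2, Ideal.span_singleton_mul_span_singleton, map_mul, germ_ores inf_le_left hz,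
      germ_ores inf_le_right hz]

/-- The inverse of the class of an effective Cartier ideal has a section with this ideal of vanishing. -/
theorem exists_can {Y : Scheme.{u}} {I : Y.IdealSheafData} (hI : BlowUp.IsEffCartierIdeal I) :
    ∃ (L : Y.Modules) (hL : PicF.IsInvertible L) (s : Γ(L, ⊤)), mk L hL = (ic I hI)⁻¹ ∧ IsVan s I := by
  obtain ⟨L, hL, h⟩ := exists_mk ((ic I hI)⁻¹)
  have h1 : mk L hL * ic I hI = 1 := by rw [← h]; exact inv_mul_cancel _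
  rw [ic, mk_mul_mk, mk_eq_one_iff] at h1
  obtain ⟨s, hs⟩ := exists_canonical hL hI h1
  exact ⟨L, hL, s, h.symm, hs⟩

section defs

variable {k : Type u} [Field k] {M₁ M₂ J : Over (B0 k)}

/-- `Θ^n ⊗ d^* L`. -/
noncomputable abbrev tw {M : Over (B0 k)} (Θ : M.left.Modules) (n : ℕ) (d : M ⟶ J) (L : J.left.Modules) :
    M.left.Modules := CohB1.tensorMod (CohB1.tensorPow Θ n) ((Scheme.Modules.pullback d.left).obj L)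

/-- The external product `A ⊠ B`. -/
noncomputable abbrev box (A : M₁.left.Modules) (B : M₂.left.Modules) : (M₁ ⊗ M₂).left.Modules :=
  CohB1.tensorMod ((Scheme.Modules.pullback (fst M₁ M₂).left).obj A)
    ((Scheme.Modules.pullback (snd M₁ M₂).left).obj B)

/-- `d₂ - d₁`. -/
noncomputable abbrev mu [GrpObj J] (d₁ : M₁ ⟶ J) (d₂ : M₂ ⟶ J) : M₁ ⊗ M₂ ⟶ J :=
  (fst M₁ M₂ ≫ d₁)⁻¹ * (snd M₁ M₂ ≫ d₂)

theorem lift_mu [GrpObj J] (d₁ : M₁ ⟶ J) (d₂ : M₂ ⟶ J) {T : Over (B0 k)} (x : T ⟶ M₁) (y : T ⟶ M₂) :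
    lift x y ≫ mu d₁ d₂ = (x ≫ d₁)⁻¹ * (y ≫ d₂) := by
  rw [MonObj.comp_mul, GrpObj.comp_inv, lift_fst_assoc, lift_snd_assoc]

end defs

section cls

variable {k : Type u} [Field k] {J T : Over (B0 k)} [GrpObj J] [IsProper J.hom] [GeometricallyIntegral J.hom]

theorem key {G : Type*} [CommGroup G] (x y z : G) : z = x * y * (z * x⁻¹ * y⁻¹) := by
  rw [_root_.mul_assoc z, ← _root_.mul_inv, _root_.mul_comm z, mul_inv_cancel_left]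

theorem key2 {G : Type*} [CommGroup G] (a b x y d : G) : a * b * d * (x * y * d⁻¹) = a * x * (b * y) := by
  rw [_root_.mul_mul_mul_comm, mul_inv_cancel, _root_.mul_one, _root_.mul_mul_mul_comm]

/-- `(b - a)^* c = a^* c + b^* c - D(a, b)` for a symmetric class. -/
theorem pl_sub (c : Pic J.left) (hc : Groth.Agent.Grpsch.Cube.pl (ι[J] : J ⟶ J) c = c) (a b : T ⟶ J) :
    Groth.Agent.Grpsch.Cube.pl (a⁻¹ * b) c =
      Groth.Agent.Grpsch.Cube.pl a c * Groth.Agent.Grpsch.Cube.pl b c * (D c a b)⁻¹ := by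
  have h1 : D c (a⁻¹) b = (D c a b)⁻¹ := by
    have h := D_zpow_left c a b (-1)
    rwa [zpow_neg_one, zpow_neg_one] at h
  have h2 : Groth.Agent.Grpsch.Cube.pl (a⁻¹) c = Groth.Agent.Grpsch.Cube.pl a c := by
    have h3 : a⁻¹ = a ≫ (ι[J] : J ⟶ J) := rfl
    rw [h3, Groth.Agent.Grpsch.Cube.pl_comp, hc]
  rw [← h1, D, h2]
  exact key _ _ _

end cls

section row

variable {k : Type u} [Field k] {X : Scheme.{u}} [X.Over (Spec (CommRingCat.of k))]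
  [IsProper (X ↘ Spec (CommRingCat.of k))] [Smooth (X ↘ Spec (CommRingCat.of k))]
  [GeometricallyConnected (X ↘ Spec (CommRingCat.of k))] (hdim : topologicalKrullDim ↥X = 1)
  {J : Over (B0 k)} [GrpObj J] {ψ : (ModFun.PicDeg (st k X) 0).Hom ⊤ J} (hJ : Jac.IsJacobian (st k X) ⊤ J ψ)
  [IsAlgClosed k] [IsCommMonObj J] {N : X.Modules} (hN : PicF.IsInvertible N)

open K319.Seesaw Groth.Agent.Dix.IdealModCartier

include hdim hJ hN in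
/-- The class of `τ^* Θ₃`. -/
theorem cls_row {r m : ℕ} (hr : 1 ≤ r) (hm : 1 ≤ m) {ΘJ : J.left.Modules}
    (hΘJ : Jac.IsThetaLB (st k X) 0 ψ N ΘJ) {M₁ M₂ M₃ : Over (B0 k)}
    {φ₁ : (BunMod.USS (st k X) r 0).Hom ⊤ M₁} {φ₂ : (BunMod.USS (st k X) m 0).Hom ⊤ M₂}
    {φ₃ : (BunMod.USS (st k X) (m * r) 0).Hom ⊤ M₃}
    (hM₂ : ModFun.IsBestApprox ⊤ (BunMod.USS (st k X) m 0) M₂ φ₂)
    {a : J ⊗ M₂ ⟶ M₂} (ha : Jac.IsBinOpMap ψ φ₂ φ₂ (Jac.tensorRel (st k X)) a) {τ : M₁ ⊗ M₂ ⟶ M₃}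
    (hτ : Jac.IsBinOpMap φ₁ φ₂ φ₃ (Jac.tensorRel (st k X)) τ) {d₁ : M₁ ⟶ J}
    (hd₁ : BunMod.IsDetMap (st k X) (BunMod.ussOK (st k X) r 0) φ₁ 0 ψ d₁) {d₂ : M₂ ⟶ J}
    (hd₂ : BunMod.IsDetMap (st k X) (BunMod.ussOK (st k X) m 0) φ₂ 0 ψ d₂) {Θ₁ : M₁.left.Modules}
    (hΘ₁ : BunMod.IsThetaLB (st k X) (BunMod.ussOK (st k X) r 0) φ₁ N Θ₁) {Θ₂ : M₂.left.Modules}
    (hΘ₂ : BunMod.IsThetaLB (st k X) (BunMod.ussOK (st k X) m 0) φ₂ N Θ₂)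
    (hψ : IsThetaJ ψ N) (I₁ : Inp φ₁ N) (I₂ : Inp φ₂ N) (hφ₃ : IsTheta φ₃ N)
    (e3 : BlowUp.IsEffCartierIdeal (vI φ₃ N))
    (hl₁ : ∀ x y : Pt M₁, x ≫ d₁ = y ≫ d₁ → Lnk M₁ x y) (hl₂ : ∀ x y : Pt M₂, x ≫ d₂ = y ≫ d₂ → Lnk M₂ x y) :
    Groth.Agent.Grpsch.Cube.pl τ (ic (vI φ₃ N) e3)⁻¹ =
      Groth.Agent.Grpsch.Cube.pl (fst M₁ M₂) (mk Θ₁ hΘ₁.1) ^ m * Groth.Agent.Grpsch.Cube.pl (snd M₁ M₂) (mk Θ₂ hΘ₂.1) ^ r *
        D (mk ΘJ hΘJ.1) (fst M₁ M₂ ≫ d₁) (snd M₁ M₂ ≫ d₂) := by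
  obtain ⟨n, rfl⟩ : ∃ n, r = n + 1 := ⟨r - 1, by omega⟩
  obtain ⟨m, rfl⟩ : ∃ n, m = n + 1 := ⟨m - 1, by omega⟩
  obtain ⟨-, hp, hgi, -⟩ := K532.ThetaAmple.exists_setup hdim hJ
  obtain ⟨LL, hLL, hLL1⟩ := K319.Sect.exists_univ hdim hJ
  have := I₁.proper
  have := I₁.geomInt
  have := I₂.proper
  have := I₂.geomInt
  have hi1 := K319.Core.isIntegral_left M₁
  have eJ := isEffCartierIdeal_of_isInverseOf hΘJ.2
  have e1 := isEffCartierIdeal_of_isInverseOf hΘ₁.2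
  have e2 := isEffCartierIdeal_of_isInverseOf hΘ₂.2
  have key := main_cl hdim hJ hLL hLL1 hN I₂.normal hM₂ ha hτ hψ I₁.theta I₂.theta hφ₃ I₁.test I₂.test hd₁ hd₂
    hl₁ hl₂ eJ e1 e2 e3
  rw [← mk_eq_inv_ic hΘJ.1 hΘJ.2, ← mk_eq_inv_ic hΘ₁.1 hΘ₁.2, ← mk_eq_inv_ic hΘ₂.1 hΘ₂.2] at key
  exact key

include hdim hJ hN in
/-- **The section.** -/
theorem exists_sec {r m : ℕ} (hr : 1 ≤ r) (hm : 1 ≤ m) {ΘJ : J.left.Modules}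
    (hΘJ : Jac.IsThetaLB (st k X) 0 ψ N ΘJ)
    (hs : Groth.Agent.Grpsch.Cube.pl (ι[J] : J ⟶ J) (mk ΘJ hΘJ.1) = mk ΘJ hΘJ.1) {M₁ M₂ M₃ : Over (B0 k)}
    {φ₁ : (BunMod.USS (st k X) r 0).Hom ⊤ M₁} {φ₂ : (BunMod.USS (st k X) m 0).Hom ⊤ M₂}
    {φ₃ : (BunMod.USS (st k X) (m * r) 0).Hom ⊤ M₃}
    (hM₂ : ModFun.IsBestApprox ⊤ (BunMod.USS (st k X) m 0) M₂ φ₂)
    {a : J ⊗ M₂ ⟶ M₂} (ha : Jac.IsBinOpMap ψ φ₂ φ₂ (Jac.tensorRel (st k X)) a) {τ : M₁ ⊗ M₂ ⟶ M₃}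
    (hτ : Jac.IsBinOpMap φ₁ φ₂ φ₃ (Jac.tensorRel (st k X)) τ) {d₁ : M₁ ⟶ J}
    (hd₁ : BunMod.IsDetMap (st k X) (BunMod.ussOK (st k X) r 0) φ₁ 0 ψ d₁) {d₂ : M₂ ⟶ J}
    (hd₂ : BunMod.IsDetMap (st k X) (BunMod.ussOK (st k X) m 0) φ₂ 0 ψ d₂) {Θ₁ : M₁.left.Modules}
    (hΘ₁ : BunMod.IsThetaLB (st k X) (BunMod.ussOK (st k X) r 0) φ₁ N Θ₁) {Θ₂ : M₂.left.Modules}
    (hΘ₂ : BunMod.IsThetaLB (st k X) (BunMod.ussOK (st k X) m 0) φ₂ N Θ₂)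
    (hψ : IsThetaJ ψ N) (I₁ : Inp φ₁ N) (I₂ : Inp φ₂ N) (hφ₃ : IsTheta φ₃ N)
    (e3 : BlowUp.IsEffCartierIdeal (vI φ₃ N))
    (hl₁ : ∀ x y : Pt M₁, x ≫ d₁ = y ≫ d₁ → Lnk M₁ x y) (hl₂ : ∀ x y : Pt M₂, x ≫ d₂ = y ≫ d₂ → Lnk M₂ x y) :
    ∃ t : Γ(box (tw Θ₁ m d₁ ΘJ) (tw Θ₂ r d₂ ΘJ), ⊤),
      IsVan t ((vI φ₃ N).comap τ.left * (vJ ψ N).comap (mu d₁ d₂).left) := by
  have key := cls_row hdim hJ hN hr hm hΘJ hM₂ ha hτ hd₁ hd₂ hΘ₁ hΘ₂ hψ I₁ I₂ hφ₃ e3 hl₁ hl₂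
  obtain ⟨-, hp, hgi, -⟩ := K532.ThetaAmple.exists_setup hdim hJ
  have eJ := isEffCartierIdeal_of_isInverseOf hΘJ.2
  obtain ⟨L₃, hL₃, s₃, h₃, v₃⟩ := exists_can e3
  obtain ⟨sJ, vJ'⟩ := exists_canonical hΘJ.1 eJ hΘJ.2
  have v := isVan_tmul (v₃.pull τ.left) (vJ'.pull (mu d₁ d₂).left)
  have hA : PicF.IsInvertible (tw Θ₁ m d₁ ΘJ) := isInvertible_tensorMod (isInvertible_tensorPow hΘ₁.1 m)
    (isInvertible_pullback _ hΘJ.1)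
  have hB : PicF.IsInvertible (tw Θ₂ r d₂ ΘJ) := isInvertible_tensorMod (isInvertible_tensorPow hΘ₂.1 r)
    (isInvertible_pullback _ hΘJ.1)
  have hT : PicF.IsInvertible (CohB1.tensorMod ((Scheme.Modules.pullback τ.left).obj L₃)
      ((Scheme.Modules.pullback (mu d₁ d₂).left).obj ΘJ)) :=
    isInvertible_tensorMod (isInvertible_pullback _ hL₃) (isInvertible_pullback _ hΘJ.1)
  have hAB : PicF.IsInvertible (box (tw Θ₁ m d₁ ΘJ) (tw Θ₂ r d₂ ΘJ)) :=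
    isInvertible_tensorMod (isInvertible_pullback _ hA) (isInvertible_pullback _ hB)
  have e : Nonempty (CohB1.tensorMod ((Scheme.Modules.pullback τ.left).obj L₃)
      ((Scheme.Modules.pullback (mu d₁ d₂).left).obj ΘJ) ≅ box (tw Θ₁ m d₁ ΘJ) (tw Θ₂ r d₂ ΘJ)) := by
    rw [← mk_eq_iff hT hAB]
    have a1 : mk _ hT = Groth.Agent.Grpsch.Cube.pl τ (mk L₃ hL₃) *
        Groth.Agent.Grpsch.Cube.pl (mu d₁ d₂) (mk ΘJ hΘJ.1) := by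
      rw [Groth.Agent.Grpsch.Cube.pl, Groth.Agent.Grpsch.Cube.pl, pull_mk, pull_mk, mk_mul_mk]
    have a2 : mk _ hAB =
        Groth.Agent.Grpsch.Cube.pl (fst M₁ M₂) (mk Θ₁ hΘ₁.1 ^ m * Groth.Agent.Grpsch.Cube.pl d₁ (mk ΘJ hΘJ.1)) *
        Groth.Agent.Grpsch.Cube.pl (snd M₁ M₂) (mk Θ₂ hΘ₂.1 ^ r * Groth.Agent.Grpsch.Cube.pl d₂ (mk ΘJ hΘJ.1)) := by
      rw [Groth.Agent.Grpsch.Cube.pl, Groth.Agent.Grpsch.Cube.pl, Groth.Agent.Grpsch.Cube.pl,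
        Groth.Agent.Grpsch.Cube.pl, ← mk_tensorPow, ← mk_tensorPow, pull_mk d₁.left, pull_mk d₂.left, mk_mul_mk,
        mk_mul_mk, pull_mk, pull_mk, mk_mul_mk]
    rw [a1, a2, h₃, key, pl_sub _ hs, map_mul, map_mul, map_pow, map_pow, ← Groth.Agent.Grpsch.Cube.pl_comp,
      ← Groth.Agent.Grpsch.Cube.pl_comp]
    exact key2 _ _ _ _ _
  obtain ⟨e⟩ := e
  exact ⟨_, v.app e.hom⟩

omit [IsProper (X ↘ Spec (CommRingCat.of k))] [Smooth (X ↘ Spec (CommRingCat.of k))]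
  [GeometricallyConnected (X ↘ Spec (CommRingCat.of k))] [IsAlgClosed k] in
/-- **The ideal of the section on a pair of families.** -/
theorem comap_eq {r m : ℕ} {M₁ M₂ M₃ : Over (B0 k)}
    {φ₁ : (BunMod.USS (st k X) r 0).Hom ⊤ M₁} {φ₂ : (BunMod.USS (st k X) m 0).Hom ⊤ M₂}
    {φ₃ : (BunMod.USS (st k X) (m * r) 0).Hom ⊤ M₃} {τ : M₁ ⊗ M₂ ⟶ M₃}
    (hτ : Jac.IsBinOpMap φ₁ φ₂ φ₃ (Jac.tensorRel (st k X)) τ) {d₁ : M₁ ⟶ J} {d₂ : M₂ ⟶ J}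
    (hψ : IsThetaJ ψ N) (hφ₃ : IsTheta φ₃ N) {T : Over (B0 k)} {E F D : (PicF.XT (st k X) T).Modules}
    (hE : (BunMod.USS (st k X) r 0).ok T E) (hF : (BunMod.USS (st k X) m 0).ok T F)
    (hG : (BunMod.USS (st k X) (m * r) 0).ok T (CohB1.tensorMod E F)) (hD : (ModFun.PicDeg (st k X) 0).ok T D)
    (h : ψ.app T D trivial hD = (φ₁.app T E trivial hE ≫ d₁)⁻¹ * (φ₂.app T F trivial hF ≫ d₂)) :
    ((vI φ₃ N).comap τ.left * (vJ ψ N).comap (mu d₁ d₂).left).comap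
        (lift (φ₁.app T E trivial hE) (φ₂.app T F trivial hF)).left =
      thetaIdeal k N T (CohB1.tensorMod E F) * thetaIdeal k N T D := by
  rw [comap_mul, ← Scheme.IdealSheafData.comap_comp, ← Over.comp_left, ← Scheme.IdealSheafData.comap_comp,
    ← Over.comp_left, lift_mu, ← h, ← hψ T D hD, ← hφ₃ T _ hG]
  congr 3
  exact (hτ.2 T (E, F) (CohB1.tensorMod E F) trivial ⟨hE, hF⟩ hG ⟨Iso.refl _⟩).symm

/-- The theorem on theta ideals for all moduli spaces of semistable bundles of rank `n` and degree zero. -/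
def ThetaAt (k : Type u) [Field k] (X : Scheme.{u}) [X.Over (Spec (CommRingCat.of k))] (N : X.Modules) (n : ℕ) :
    Prop :=
  ∀ (M : Over (B0 k)) (φ : (BunMod.USS (st k X) n 0).Hom ⊤ M),
    ModFun.IsBestApprox ⊤ (BunMod.USS (st k X) n 0) M φ → IsTheta φ N ∧ BlowUp.IsEffCartierIdeal (vI φ N)

include hdim hJ hN in
/-- **The section `T`.** -/
theorem exists_T0 [CharZero k] {r m : ℕ} (hr : 1 ≤ r) (hm : 1 ≤ m) (hψ : IsThetaJ ψ N)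
    {ΘJ : J.left.Modules} (hΘJ : Jac.IsThetaLB (st k X) 0 ψ N ΘJ)
    (hs : Nonempty ((Scheme.Modules.pullback (ι[J] : J ⟶ J).left).obj ΘJ ≅ ΘJ))
    {M₁ M₂ : Over (B0 k)}
    {φ₁ : (BunMod.USS (st k X) r 0).Hom ⊤ M₁} (hM₁ : BunMod.IsModSS (st k X) ⊤ r 0 M₁ φ₁)
    {φ₂ : (BunMod.USS (st k X) m 0).Hom ⊤ M₂} (hM₂ : BunMod.IsModSS (st k X) ⊤ m 0 M₂ φ₂)
    (t₁ : IsTheta φ₁ N) (t₂ : IsTheta φ₂ N) (hTM : ThetaAt k X N (m * r))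
    {d₁ : M₁ ⟶ J} (hd₁ : BunMod.IsDetMap (st k X) (BunMod.ussOK (st k X) r 0) φ₁ 0 ψ d₁) {d₂ : M₂ ⟶ J}
    (hd₂ : BunMod.IsDetMap (st k X) (BunMod.ussOK (st k X) m 0) φ₂ 0 ψ d₂) {Θ₁ : M₁.left.Modules}
    (hΘ₁ : BunMod.IsThetaLB (st k X) (BunMod.ussOK (st k X) r 0) φ₁ N Θ₁) {Θ₂ : M₂.left.Modules}
    (hΘ₂ : BunMod.IsThetaLB (st k X) (BunMod.ussOK (st k X) m 0) φ₂ N Θ₂) :
    ∃ t : Γ(box (tw Θ₁ m d₁ ΘJ) (tw Θ₂ r d₂ ΘJ), ⊤),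
      ∀ {T : Over (B0 k)} {E F D : (PicF.XT (st k X) T).Modules} (hE : (BunMod.USS (st k X) r 0).ok T E)
        (hF : (BunMod.USS (st k X) m 0).ok T F) (hD : (ModFun.PicDeg (st k X) 0).ok T D),
        ψ.app T D trivial hD = (φ₁.app T E trivial hE ≫ d₁)⁻¹ * (φ₂.app T F trivial hF ≫ d₂) →
        IsVan (pullTop (lift (φ₁.app T E trivial hE) (φ₂.app T F trivial hF)).left t)
          (thetaIdeal k N T (CohB1.tensorMod E F) * thetaIdeal k N T D) := by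
  obtain ⟨A₁⟩ := K140.BM.exists_atlasC (X := X) (k := k) hdim hr
  obtain ⟨A₂⟩ := K140.BM.exists_atlasC (X := X) (k := k) hdim hm
  obtain ⟨A₃⟩ := K140.BM.exists_atlasC (X := X) (k := k) hdim (Nat.mul_pos hm hr)
  obtain ⟨-, -, -, -, σ, hσ, -⟩ := K532.ThetaAmple.exists_setup hdim hJ
  obtain ⟨FJ⟩ := K757.TwistUSS.exists_fineJ hdim σ hσ hJ
  obtain ⟨a, ha⟩ := K319.ActBin.exists_isBinOpMap hdim (K757.OnM.exists_uss A₂ hM₂.2.1).1 FJ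
  have b₃ := (K757.Uni.univBest' A₃ (fun g F h => K757.Geo.ussOK_pull g h)).best
  obtain ⟨t₃, e₃⟩ := hTM _ _ b₃
  obtain ⟨τ, hτ⟩ : ∃ τ, Jac.IsBinOpMap φ₁ φ₂ (K757.FromAtlas.phi (K757.Uni.toAtlas A₃)) (Jac.tensorRel (st k X)) τ := by
    have H : ∀ (n : ℕ) (_ : n = r * m) (M₃ : Over (B0 k)) (φ₃ : (BunMod.USS (st k X) n 0).Hom ⊤ M₃),
        ∃ τ : M₁ ⊗ M₂ ⟶ M₃, Jac.IsBinOpMap φ₁ φ₂ φ₃ (Jac.tensorRel (st k X)) τ := by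
      rintro _ rfl M₃ φ₃
      exact K706.TensFam.exists_isBinOpMap hdim φ₃ (K757.OnM.exists_uss A₁ hM₁.2.1).1
        (K757.OnM.exists_uss A₂ hM₂.2.1).1
    exact H _ (Nat.mul_comm m r) _ _
  have hs' : Groth.Agent.Grpsch.Cube.pl (ι[J] : J ⟶ J) (mk ΘJ hΘJ.1) = mk ΘJ hΘJ.1 := by
    rw [Groth.Agent.Grpsch.Cube.pl, pull_mk, mk_eq_iff]
    exact hs
  obtain ⟨t, ht⟩ := exists_sec hdim hJ hN hr hm hΘJ hs' hM₂.2.1 ha hτ hd₁ hd₂ hΘ₁ hΘ₂ hψ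
    (K319.Fin.inp hdim hJ hr hM₁ hd₁ A₁ t₁) (K319.Fin.inp hdim hJ hm hM₂ hd₂ A₂ t₂) t₃ e₃
    (fun x y h => K319.LnkE1.lnk hdim hJ hr hM₁ hd₁ h) (fun x y h => K319.LnkE1.lnk hdim hJ hm hM₂ hd₂ h)
  refine ⟨t, fun {T E F D} hE hF hD h => ?_⟩
  have hG : (BunMod.USS (st k X) (m * r) 0).ok T (CohB1.tensorMod E F) :=
    ⟨trivial, by rw [Nat.mul_comm]; exact K706.TensFam.ussOK_tens_zero hdim hE.2 hF.2⟩
  rw [← comap_eq hτ hψ t₃ hE hF hG hD h]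
  exact ht.pull _

end row

end K479.SdT
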