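import Groth.Agent.BunMod.K479.SdT
import Groth.Agent.BunMod.K429.ValBox
import Groth.Agent.BunMod.K28.R1Main

/-!
# The element `T` of `H⁰(M₁, A) ⊗ H⁰(M₂, B)` and its values

`exists_T`: for families `E`, `F` over `Spec R` and values `v`, `w` of the sections of `A`, `B` at the points defined by
`E`, `F`, the element `prV v w T` of `R` generates the ideal `thetaIdeal (E ⊗ F) * thetaIdeal (det F ⊗ (det E)⁻¹)`.
-/

set_option autoImplicit false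
universe u
open CategoryTheory CategoryTheory.Limits AlgebraicGeometry MonoidalCategory CartesianMonoidalCategory MonObj
open scoped TensorProduct

namespace K479.SdT

open Jac K140.BM K319.Main Groth.Agent.Fdesc.LocGen Groth.Agent.Sga7.H543.Van K429.Val

variable {k : Type u} [Field k] {X : Scheme.{u}} [X.Over (Spec (CommRingCat.of k))]
  [IsProper (X ↘ Spec (CommRingCat.of k))] [Smooth (X ↘ Spec (CommRingCat.of k))]
  [GeometricallyConnected (X ↘ Spec (CommRingCat.of k))] (hdim : topologicalKrullDim ↥X = 1)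
  {J : Over (B0 k)} [GrpObj J] {ψ : (ModFun.PicDeg (st k X) 0).Hom ⊤ J} (hJ : Jac.IsJacobian (st k X) ⊤ J ψ)
  [IsAlgClosed k] [IsCommMonObj J] {N : X.Modules} (hN : PicF.IsInvertible N)

include hdim hJ hN in
/-- **The element `T`.** -/
theorem exists_T [CharZero k] {r m : ℕ} (hr : 1 ≤ r) (hm : 1 ≤ m) (hψ : IsThetaJ ψ N)
    {ΘJ : J.left.Modules} (hΘJ : Jac.IsThetaLB (st k X) 0 ψ N ΘJ)
    (hs : Nonempty ((Scheme.Modules.pullback (ι[J] : J ⟶ J).left).obj ΘJ ≅ ΘJ))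
    {M₁ M₂ : Over (B0 k)}
    {φ₁ : (BunMod.USS (st k X) r 0).Hom ⊤ M₁} (hM₁ : BunMod.IsModSS (st k X) ⊤ r 0 M₁ φ₁)
    {φ₂ : (BunMod.USS (st k X) m 0).Hom ⊤ M₂} (hM₂ : BunMod.IsModSS (st k X) ⊤ m 0 M₂ φ₂)
    (t₁ : IsTheta φ₁ N) (t₂ : IsTheta φ₂ N) (hTM : ThetaAt k X N (m * r))
    {d₁ : M₁ ⟶ J} (hd₁ : BunMod.IsDetMap (st k X) (BunMod.ussOK (st k X) r 0) φ₁ 0 ψ d₁) {d₂ : M₂ ⟶ J}
    (hd₂ : BunMod.IsDetMap (st k X) (BunMod.ussOK (st k X) m 0) φ₂ 0 ψ d₂) {Θ₁ : M₁.left.Modules}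
    (hΘ₁ : BunMod.IsThetaLB (st k X) (BunMod.ussOK (st k X) r 0) φ₁ N Θ₁) {Θ₂ : M₂.left.Modules}
    (hΘ₂ : BunMod.IsThetaLB (st k X) (BunMod.ussOK (st k X) m 0) φ₂ N Θ₂) :
    ∃ T : H0 M₁ (CohB1.tensorMod (CohB1.tensorPow Θ₁ m) ((Scheme.Modules.pullback d₁.left).obj ΘJ)) ⊗[k]
        H0 M₂ (CohB1.tensorMod (CohB1.tensorPow Θ₂ r) ((Scheme.Modules.pullback d₂.left).obj ΘJ)),
      ∀ {R : Type u} [CommRing R] [Algebra k R] {E F D : (PicF.XT (st k X) (SpA k R)).Modules}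
        (hE : (BunMod.USS (st k X) r 0).ok (SpA k R) E) (hF : (BunMod.USS (st k X) m 0).ok (SpA k R) F)
        (hD : (ModFun.PicDeg (st k X) 0).ok (SpA k R) D),
        ψ.app (SpA k R) D trivial hD =
          (φ₁.app (SpA k R) E trivial hE ≫ d₁)⁻¹ * (φ₂.app (SpA k R) F trivial hF ≫ d₂) →
        ∀ {v w}, IsVal (R := R) _ (φ₁.app (SpA k R) E trivial hE) v → IsVal (R := R) _ (φ₂.app (SpA k R) F trivial hF) w →
          (thetaIdeal k N (SpA k R) (CohB1.tensorMod E F) * thetaIdeal k N (SpA k R) D).ideal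
            ⟨⊤, haveI : IsAffine (SpA k R).left := inferInstanceAs (IsAffine (Spec (CommRingCat.of R)));
              isAffineOpen_top (SpA k R).left⟩ = Ideal.span {fnR k (prV v w T)} := by
  obtain ⟨t, ht⟩ := exists_T0 hdim hJ hN hr hm hψ hΘJ hs hM₁ hM₂ t₁ t₂ hTM hd₁ hd₂ hΘ₁ hΘ₂
  obtain ⟨A₁⟩ := K140.BM.exists_atlasC (X := X) (k := k) hdim hr
  have := (K319.Fin.inp hdim hJ hr hM₁ hd₁ A₁ t₁).proper
  have hA : PicF.IsInvertible (tw Θ₁ m d₁ ΘJ) := isInvertible_tensorMod (isInvertible_tensorPow hΘ₁.1 m)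
    (isInvertible_pullback _ hΘJ.1)
  have hB : PicF.IsInvertible (tw Θ₂ r d₂ ΘJ) := isInvertible_tensorMod (isInvertible_tensorPow hΘ₂.1 r)
    (isInvertible_pullback _ hΘJ.1)
  have hAc : Coh.IsCoh (tw Θ₁ m d₁ ΘJ) := Groth.Agent.PerfA.CohSerre.isCoh_of_isFinLocFree
    (Groth.Agent.Ega2.QCohLocal.isFinLocFree_of_rank (Groth.Agent.Ega2.QCohLocal.isFinLocFreeOfRank_one_iff.mpr hA))
  have hBb : Groth.Agent.VarietyB.TensCoh.HasBases (tw Θ₂ r d₂ ΘJ) :=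
    Groth.Agent.VarietyB.TensCoh.HasBases.of_isFinLocFreeOfRank (Groth.Agent.Ega2.QCohLocal.isFinLocFreeOfRank_one_iff.mpr hB)
  obtain ⟨T, hT⟩ := box_surjective (M₁ := M₁) (M₂ := M₂) hAc hBb (toSec.symm t)
  refine ⟨T, fun {R} _ _ {E F D} hE hF hD h {v w} hv hw => ?_⟩
  obtain ⟨u, ⟨e, he, hu⟩, hu'⟩ := exists_val_box hA hB
    (lift (φ₁.app (SpA k R) E trivial hE) (φ₂.app (SpA k R) F trivial hF)) (fst M₁ M₂) (snd M₁ M₂)
    (hv.congr (lift_fst _ _).symm) (hw.congr (lift_snd _ _).symm)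
  refine (ht hE hF hD h).ideal _ he ?_
  have h1 := hu (K429.Val.box _ _ _ _ T)
  rw [hT, AddEquiv.apply_symm_apply, ← hT, hu'] at h1
  rw [h1]
  exact res_refl _ _

/-- **The element `T`**, with the hypotheses of the row S16926. -/
theorem exists_T_row (k : Type u) [Field k] [IsAlgClosed k] [CharZero k]
    (X : Scheme.{u}) [X.Over (Spec (CommRingCat.of k))]
    [IsProper (X ↘ Spec (CommRingCat.of k))] [Smooth (X ↘ Spec (CommRingCat.of k))]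
    [GeometricallyConnected (X ↘ Spec (CommRingCat.of k))] (hdim : topologicalKrullDim ↥X = 1)
    (g : ℕ) (hg : Curv2.genus k X = g) (hg1 : 1 ≤ g)
    (r m : ℕ) (hr : 1 ≤ r) (hm : 1 ≤ m) (N : X.Modules) (hN : PicF.IsInvertible N)
    (hNdeg : Curv2.deg k X N 1 = (g : ℤ) - 1)
    (hNth : Nonempty (CohB1.tensorMod N N ≅ Omega.sheaf (X ↘ Spec (CommRingCat.of k))))
    (J : Over (Spec (CommRingCat.of k))) [GrpObj J] [IsCommMonObj J]
    (ψ : (ModFun.PicDeg (X ↘ Spec (CommRingCat.of k)) 0).Hom ⊤ J)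
    (hJ : Jac.IsJacobian (X ↘ Spec (CommRingCat.of k)) ⊤ J ψ)
    (ΘJ : J.left.Modules) (hΘJ : Jac.IsThetaLB (X ↘ Spec (CommRingCat.of k)) 0 ψ N ΘJ)
    (M₁ : Over (Spec (CommRingCat.of k))) (φ₁ : (BunMod.USS (X ↘ Spec (CommRingCat.of k)) r 0).Hom ⊤ M₁)
    (hM₁ : BunMod.IsModSS (X ↘ Spec (CommRingCat.of k)) ⊤ r 0 M₁ φ₁)
    (Θ₁ : M₁.left.Modules) (hΘ₁ : BunMod.IsThetaLB (X ↘ Spec (CommRingCat.of k))
      (BunMod.ussOK (X ↘ Spec (CommRingCat.of k)) r 0) φ₁ N Θ₁)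
    (d₁ : M₁ ⟶ J) (hd₁ : BunMod.IsDetMap (X ↘ Spec (CommRingCat.of k))
      (BunMod.ussOK (X ↘ Spec (CommRingCat.of k)) r 0) φ₁ 0 ψ d₁)
    (M₂ : Over (Spec (CommRingCat.of k))) (φ₂ : (BunMod.USS (X ↘ Spec (CommRingCat.of k)) m 0).Hom ⊤ M₂)
    (hM₂ : BunMod.IsModSS (X ↘ Spec (CommRingCat.of k)) ⊤ m 0 M₂ φ₂)
    (Θ₂ : M₂.left.Modules) (hΘ₂ : BunMod.IsThetaLB (X ↘ Spec (CommRingCat.of k))
      (BunMod.ussOK (X ↘ Spec (CommRingCat.of k)) m 0) φ₂ N Θ₂)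
    (d₂ : M₂ ⟶ J) (hd₂ : BunMod.IsDetMap (X ↘ Spec (CommRingCat.of k))
      (BunMod.ussOK (X ↘ Spec (CommRingCat.of k)) m 0) φ₂ 0 ψ d₂)
    (t₁ : IsTheta φ₁ N) (t₂ : IsTheta φ₂ N) (hTM : ThetaAt k X N (m * r)) :
    ∃ T : H0 M₁ (CohB1.tensorMod (CohB1.tensorPow Θ₁ m) ((Scheme.Modules.pullback d₁.left).obj ΘJ)) ⊗[k]
        H0 M₂ (CohB1.tensorMod (CohB1.tensorPow Θ₂ r) ((Scheme.Modules.pullback d₂.left).obj ΘJ)),
      ∀ {R : Type u} [CommRing R] [Algebra k R] {E F D : (PicF.XT (st k X) (SpA k R)).Modules}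
        (hE : (BunMod.USS (st k X) r 0).ok (SpA k R) E) (hF : (BunMod.USS (st k X) m 0).ok (SpA k R) F)
        (hD : (ModFun.PicDeg (st k X) 0).ok (SpA k R) D),
        ψ.app (SpA k R) D trivial hD =
          (φ₁.app (SpA k R) E trivial hE ≫ d₁)⁻¹ * (φ₂.app (SpA k R) F trivial hF ≫ d₂) →
        ∀ {v w}, IsVal (R := R) _ (φ₁.app (SpA k R) E trivial hE) v → IsVal (R := R) _ (φ₂.app (SpA k R) F trivial hF) w →
          (thetaIdeal k N (SpA k R) (CohB1.tensorMod E F) * thetaIdeal k N (SpA k R) D).ideal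
            ⟨⊤, haveI : IsAffine (SpA k R).left := inferInstanceAs (IsAffine (Spec (CommRingCat.of R)));
              isAffineOpen_top (SpA k R).left⟩ = Ideal.span {fnR k (prV v w T)} :=
  exists_T hdim hJ hN hr hm (K28.R1Main.isThetaJ hdim hJ hN (by rw [hNdeg, hg])) hΘJ
    (K527.SymTheta.sym k X hdim g hg hg1 N hN hNdeg hNth J ψ hJ ΘJ hΘJ) hM₁ hM₂ t₁ t₂ hTM hd₁ hd₂ hΘ₁ hΘ₂

end K479.SdT
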